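import Mathlib
import Groth.Prelude.Def_LiftSq

set_option autoImplicit false

universe v u v₂ u₂ v₃ u₃ v₄ u₄ v₅ u₅ v₆ u₆

open CategoryTheory
open LiftSq

namespace Groth.Agent.LiftSqComp

variable {C : Type u} [Category.{v} C]
  {𝒜 : BasedCategory.{v₂, u₂} C} {ℬ : BasedCategory.{v₃, u₃} C}
  {𝒳 : BasedCategory.{v₄, u₄} C} {𝒴 : BasedCategory.{v₅, u₅} C} {𝒵 : BasedCategory.{v₆, u₆} C}

/-- Whiskering an isomorphism on the right. -/
def wrIso {F G : 𝒜 ⥤ᵇ 𝒳} (e : F ≅ G) (H : 𝒳 ⥤ᵇ 𝒴) : BasedFunctor.comp F H ≅ BasedFunctor.comp G H where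
  hom := BasedCategory.whiskerRight e.hom H
  inv := BasedCategory.whiskerRight e.inv H
  hom_inv_id := by rw [← whiskerRight_comp', e.hom_inv_id, whiskerRight_id']
  inv_hom_id := by rw [← whiskerRight_comp', e.inv_hom_id, whiskerRight_id']

theorem wr_wr {F G : 𝒜 ⥤ᵇ 𝒳} (θ : F ⟶ G) (H : 𝒳 ⥤ᵇ 𝒴) (K : 𝒴 ⥤ᵇ 𝒵) :
    BasedCategory.whiskerRight θ (BasedFunctor.comp H K) =
      BasedCategory.whiskerRight (BasedCategory.whiskerRight θ H) K := by
  apply BasedNatTrans.homCategory.ext; ext; rfl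

theorem wl_wr {F G : ℬ ⥤ᵇ 𝒳} (j : 𝒜 ⥤ᵇ ℬ) (θ : F ⟶ G) (H : 𝒳 ⥤ᵇ 𝒴) :
    BasedCategory.whiskerLeft j (BasedCategory.whiskerRight θ H) =
      BasedCategory.whiskerRight (BasedCategory.whiskerLeft j θ) H := by
  apply BasedNatTrans.homCategory.ext; ext; rfl

theorem comp {j : 𝒜 ⥤ᵇ ℬ} {f : 𝒳 ⥤ᵇ 𝒴} {g : 𝒴 ⥤ᵇ 𝒵} (hf : LiftsUniquely j f)
    (hg : LiftsUniquely j g) : LiftsUniquely j (BasedFunctor.comp f g) := by
  intro sq
  let sqg : Sq j g := ⟨BasedFunctor.comp sq.top f, sq.bot, sq.iso⟩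
  constructor
  · obtain ⟨dg⟩ := (hg sqg).1
    obtain ⟨df⟩ := (hf ⟨sq.top, dg.fn, dg.isoTop⟩).1
    refine ⟨⟨df.fn, df.isoTop, dg.isoBot ≪≫ wrIso df.isoBot g, ?_⟩⟩
    show BasedCategory.whiskerLeft j (dg.isoBot.hom ≫ BasedCategory.whiskerRight df.isoBot.hom g) ≫
      BasedCategory.whiskerRight df.isoTop.hom (BasedFunctor.comp f g) = sq.iso.hom
    rw [whiskerLeft_comp', wr_wr, wl_wr]
    refine (Category.assoc _ _ _).trans (Eq.trans ?_ dg.w)
    congr 1
    refine (whiskerRight_comp' _ _ g).symm.trans ?_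
    exact congrArg (BasedCategory.whiskerRight · g) df.w
  · intro d d'
    let e : sq.Lift → sqg.Lift := fun d =>
      { fn := BasedFunctor.comp d.fn f
        isoTop := wrIso d.isoTop f
        isoBot := d.isoBot
        w := by rw [← d.w, wr_wr]; rfl }
    obtain ⟨ug⟩ := (hg sqg).2 (e d) (e d')
    obtain ⟨ug'⟩ := (hg sqg).2 (e d') (e d)
    obtain ⟨ud⟩ := (hg sqg).2 (e d) (e d)
    obtain ⟨ud'⟩ := (hg sqg).2 (e d') (e d')
    let θ : BasedFunctor.comp d.fn f ≅ BasedFunctor.comp d'.fn f :=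
      { hom := ug.default.hom
        inv := ug'.default.hom
        hom_inv_id := congrArg Sq.Lift.Hom.hom
          ((ud.uniq (ug.default ≫ ug'.default)).trans (ud.uniq (𝟙 (e d))).symm)
        inv_hom_id := congrArg Sq.Lift.Hom.hom
          ((ud'.uniq (ug'.default ≫ ug.default)).trans (ud'.uniq (𝟙 (e d'))).symm) }
    let sqf : Sq j f := ⟨sq.top, BasedFunctor.comp d.fn f, wrIso d.isoTop f⟩
    let a : sqf.Lift :=
      { fn := d.fn
        isoTop := d.isoTop
        isoBot := Iso.refl _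
        w := by
          show BasedCategory.whiskerLeft j (𝟙 (BasedFunctor.comp d.fn f)) ≫ _ = _
          rw [whiskerLeft_id']
          exact Category.id_comp _ }
    let a' : sqf.Lift :=
      { fn := d'.fn
        isoTop := d'.isoTop
        isoBot := θ
        w := ug.default.w_top }
    obtain ⟨uf⟩ := (hf sqf).2 a a'
    have hφ : BasedCategory.whiskerRight uf.default.hom f = ug.default.hom :=
      (Category.id_comp _).symm.trans uf.default.w_bot
    refine ⟨{ default := ⟨uf.default.hom, uf.default.w_top, ?_⟩, uniq := fun ψ => ?_ }⟩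
    · rw [wr_wr, hφ]
      exact ug.default.w_bot
    · apply Sq.Lift.hom_ext
      let ψg : e d ⟶ e d' :=
        { hom := BasedCategory.whiskerRight ψ.hom f
          w_top := by
            show BasedCategory.whiskerLeft j (BasedCategory.whiskerRight ψ.hom f) ≫
              BasedCategory.whiskerRight d'.isoTop.hom f = BasedCategory.whiskerRight d.isoTop.hom f
            exact (congrArg (· ≫ _) (wl_wr j ψ.hom f)).trans
              ((whiskerRight_comp' _ _ f).symm.trans (congrArg (BasedCategory.whiskerRight · f) ψ.w_top))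
          w_bot := by rw [← wr_wr]; exact ψ.w_bot }
      have h1 : ψg = ug.default := ug.uniq ψg
      let ψf : a ⟶ a' :=
        { hom := ψ.hom
          w_top := ψ.w_top
          w_bot := (Category.id_comp _).trans (congrArg Sq.Lift.Hom.hom h1) }
      exact congrArg (fun x : a ⟶ a' => x.hom) (uf.uniq ψf)

end Groth.Agent.LiftSqComp
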