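import Mathlib
import Groth.Prelude.Def_LiftSq
import Groth.Prelude.Def_FibCat2
import Groth.Agent.LiftSqComp.Basic

set_option autoImplicit false

universe v u v₂ u₂ v₃ u₃ v₄ u₄ v₅ u₅ v₆ u₆

open CategoryTheory Limits
open LiftSq

namespace Groth.Agent.LiftSqComp

variable {C : Type u} [Category.{v} C]
  {𝒜 : BasedCategory.{v₂, u₂} C} {ℬ : BasedCategory.{v₃, u₃} C}
  {𝒳 : BasedCategory.{v₄, u₄} C} {𝒴 : BasedCategory.{v₅, u₅} C} {𝒴' : BasedCategory.{v₆, u₆} C}

/-- Whiskering an isomorphism on the left. -/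
def wlIso {F G : ℬ ⥤ᵇ 𝒳} (j : 𝒜 ⥤ᵇ ℬ) (e : F ≅ G) : BasedFunctor.comp j F ≅ BasedFunctor.comp j G where
  hom := BasedCategory.whiskerLeft j e.hom
  inv := BasedCategory.whiskerLeft j e.inv
  hom_inv_id := by rw [← whiskerLeft_comp', e.hom_inv_id, whiskerLeft_id']
  inv_hom_id := by rw [← whiskerLeft_comp', e.inv_hom_id, whiskerLeft_id']

theorem ext' {F G : 𝒜 ⥤ᵇ 𝒳} {α β : F ⟶ G} (h : ∀ a, α.toNatTrans.app a = β.toNatTrans.app a) : α = β := by
  apply BasedNatTrans.homCategory.ext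
  ext a
  exact h a

theorem app_of_eq {F G : 𝒜 ⥤ᵇ 𝒳} {α β : F ⟶ G} (h : α = β) (a : 𝒜.obj) :
    α.toNatTrans.app a = β.toNatTrans.app a := by rw [h]

theorem lift_comp {A B D : Type*} [Category A] [Category B] [Category D] (G : A ⥤ B) (p : B ⥤ D) {x x' : A}
    (φ : x ⟶ x') {R S : D} (g : R ⟶ S) (h : p.IsHomLift g (G.map φ)) : (G ⋙ p).IsHomLift g φ :=
  haveI := h
  IsHomLift.of_fac' _ _ _ (IsHomLift.domain_eq p g (G.map φ)) (IsHomLift.codomain_eq p g (G.map φ))
    (IsHomLift.fac' p g (G.map φ))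

theorem fp_lift {f : 𝒳 ⥤ᵇ 𝒴} {y : 𝒴' ⥤ᵇ 𝒴} {x x' : (FibCat.fp y f).obj} (φ : x ⟶ x') {U : C}
    (h : 𝒴'.p.IsHomLift (𝟙 U) φ.hom.fst) : (FibCat.fp y f).p.IsHomLift (𝟙 U) φ := by
  exact lift_comp ((FibCat.fpProp y f).ι ⋙ CategoricalPullback.π₁ y.toFunctor f.toFunctor) 𝒴'.p φ (𝟙 U) h

theorem map_sq {A D : Type*} [Category A] [Category D] (F : A ⥤ D) {X Y Z : A} {W V : D} {p : X ⟶ Y}
    {q : Y ⟶ Z} {r : X ⟶ Z} (h : p ≫ q = r) {i : F.obj Y ⟶ W} {g : W ⟶ V} {i' : F.obj Z ⟶ V}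
    (w : F.map q ≫ i' = i ≫ g) : (F.map p ≫ i) ≫ g = F.map r ≫ i' := by
  rw [← h, F.map_comp, Category.assoc, Category.assoc, w]

theorem inv_sq {A D : Type*} [Category A] [Category D] (F : A ⥤ D) {X Y Z : A} {W V : D} {p : X ⟶ Y}
    {p' : X ⟶ Z} {q : Y ⟶ X} (hq : q ≫ p = 𝟙 _) {i : F.obj Y ⟶ W} {g : W ⟶ V} {i' : F.obj Z ⟶ V}
    (h1 : (F.map p ≫ i) ≫ g = F.map p' ≫ i') : F.map (q ≫ p') ≫ i' = i ≫ g := by
  rw [F.map_comp, Category.assoc, ← h1, ← Category.assoc, ← Category.assoc, ← F.map_comp, hq, F.map_id,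
    Category.id_comp]

theorem cancel_tri {D : Type*} [Category D] {X Y Z W : D} {p : X ⟶ Y} {q : Y ⟶ X} (hq : q ≫ p = 𝟙 _)
    {p' : X ⟶ Z} {t : Y ⟶ W} {t' : Z ⟶ W} {r : X ⟶ W} (h1 : p ≫ t = r) (h2 : p' ≫ t' = r) :
    (q ≫ p') ≫ t' = t := by
  rw [Category.assoc, h2, ← h1, ← Category.assoc, hq, Category.id_comp]

theorem eq_inv_comp' {D : Type*} [Category D] {X Y Z : D} {p : X ⟶ Y} {q : Y ⟶ X} (hq : q ≫ p = 𝟙 _)
    {r : X ⟶ Z} {t : Y ⟶ Z} (h : p ≫ t = r) : t = q ≫ r := by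
  rw [← h, ← Category.assoc, hq, Category.id_comp]

theorem bc {j : 𝒜 ⥤ᵇ ℬ} {f : 𝒳 ⥤ᵇ 𝒴} (y : 𝒴' ⥤ᵇ 𝒴) (hf : LiftsUniquely j f) :
    LiftsUniquely j (FibCat.fpFst y f) := by
  intro sq
  let sqf : Sq j f := ⟨BasedFunctor.comp sq.top (FibCat.fpSnd y f), BasedFunctor.comp sq.bot y,
    wrIso sq.iso y ≪≫ wlIso sq.top (FibCat.fpIso y f)⟩
  constructor
  · obtain ⟨d⟩ := (hf sqf).1
    let top : BasedFunctor.comp j (FibCat.fpLift sq.bot d.fn d.isoBot) ≅ sq.top :=
      BasedNatIso.mkNatIso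
        (NatIso.ofComponents
          (fun a => ObjectProperty.isoMk _ (CategoricalPullback.mkIso
            (((BasedNatTrans.forgetful _ _).mapIso sq.iso).app a)
            (((BasedNatTrans.forgetful _ _).mapIso d.isoTop).app a)
            (app_of_eq d.w a).symm))
          (fun {a b} φ => by
            apply ObjectProperty.hom_ext
            apply CategoricalPullback.hom_ext
            · exact sq.iso.hom.toNatTrans.naturality φ
            · exact d.isoTop.hom.toNatTrans.naturality φ))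
        (fun a => fp_lift _ (sq.iso.hom.isHomLift' a))
    refine ⟨⟨FibCat.fpLift sq.bot d.fn d.isoBot, top, Iso.refl _, ?_⟩⟩
    apply ext'
    intro a
    show 𝟙 _ ≫ sq.iso.hom.toNatTrans.app a = _
    exact Category.id_comp _
  · intro c c'
    let e : sq.Lift → sqf.Lift := fun c =>
      { fn := BasedFunctor.comp c.fn (FibCat.fpSnd y f)
        isoTop := wrIso c.isoTop (FibCat.fpSnd y f)
        isoBot := wrIso c.isoBot y ≪≫ wlIso c.fn (FibCat.fpIso y f)
        w := ext' fun a => by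
          show (y.map (c.isoBot.hom.toNatTrans.app (j.obj a)) ≫ (c.fn.obj (j.obj a)).obj.iso.hom) ≫
              f.map (c.isoTop.hom.toNatTrans.app a).hom.snd =
            y.map (sq.iso.hom.toNatTrans.app a) ≫ (sq.top.obj a).obj.iso.hom
          exact map_sq y.toFunctor (app_of_eq c.w a) (c.isoTop.hom.toNatTrans.app a).hom.w }
    obtain ⟨uf⟩ := (hf sqf).2 (e c) (e c')
    let β : BasedFunctor.comp c.fn (FibCat.fpFst y f) ⟶ BasedFunctor.comp c'.fn (FibCat.fpFst y f) :=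
      c.isoBot.inv ≫ c'.isoBot.hom
    have hb : ∀ b, y.map (β.toNatTrans.app b) ≫ (c'.fn.obj b).obj.iso.hom =
        (c.fn.obj b).obj.iso.hom ≫ f.map (uf.default.hom.toNatTrans.app b) := fun b => by
      exact inv_sq y.toFunctor (app_of_eq c.isoBot.inv_hom_id b) (app_of_eq uf.default.w_bot b)
    let θ : c.fn ⟶ c'.fn :=
      { toNatTrans :=
          { app := fun b => ObjectProperty.homMk ⟨β.toNatTrans.app b, uf.default.hom.toNatTrans.app b, hb b⟩
            naturality := fun b b' φ => by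
              apply ObjectProperty.hom_ext
              apply CategoricalPullback.hom_ext
              · exact β.toNatTrans.naturality φ
              · exact uf.default.hom.toNatTrans.naturality φ }
        isHomLift' := fun b => fp_lift _ (β.isHomLift' b) }
    refine ⟨{ default := ⟨θ, ?_, ?_⟩, uniq := fun ψ => ?_ }⟩
    · apply ext'
      intro a
      apply ObjectProperty.hom_ext
      apply CategoricalPullback.hom_ext
      · exact cancel_tri (app_of_eq c.isoBot.inv_hom_id (j.obj a)) (app_of_eq c.w a) (app_of_eq c'.w a)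
      · exact app_of_eq uf.default.w_top a
    · apply ext'
      intro b
      show c.isoBot.hom.toNatTrans.app b ≫ β.toNatTrans.app b = c'.isoBot.hom.toNatTrans.app b
      exact app_of_eq (c.isoBot.hom_inv_id_assoc c'.isoBot.hom) b
    · apply Sq.Lift.hom_ext
      apply ext'
      intro b
      let ψf : e c ⟶ e c' :=
        { hom := BasedCategory.whiskerRight ψ.hom (FibCat.fpSnd y f)
          w_top := ext' fun a => congrArg (fun x => x.hom.snd) (app_of_eq ψ.w_top a)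
          w_bot := ext' fun b => by
            exact map_sq y.toFunctor (app_of_eq ψ.w_bot b) (ψ.hom.toNatTrans.app b).hom.w }
      apply ObjectProperty.hom_ext
      apply CategoricalPullback.hom_ext
      · exact eq_inv_comp' (app_of_eq c.isoBot.inv_hom_id b) (app_of_eq ψ.w_bot b)
      · exact app_of_eq (congrArg (fun x : e c ⟶ e c' => x.hom) (uf.uniq ψf)) b

end Groth.Agent.LiftSqComp
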